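import Cfsg.Agent.H69.Basic
import Mathlib.RepresentationTheory.Invariants

/-!
# Subgroups of coprime index (helper69)
-/

set_option autoImplicit false
set_option linter.style.haveILetI false
set_option linter.unusedSectionVars false

namespace Cfsg.Agent.H69

open Subgroup

variable {H : Type*} [Group H] [Finite H]

theorem relIndex_eq_index_of_coprime {A B : Subgroup H} (hco : A.index.Coprime B.index) :
    A.relIndex B = A.index := by
  have h1 : A.relIndex B * B.index = (A ⊓ B).index := by
    rw [← relIndex_mul_index (inf_le_right : A ⊓ B ≤ B), inf_relIndex_right]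
  have h2 : A.index ∣ A.relIndex B * B.index := by
    rw [h1]; exact Subgroup.index_dvd_of_le inf_le_left
  have h3 : A.index ∣ A.relIndex B := hco.dvd_of_dvd_mul_right h2
  refine le_antisymm ?_ (Nat.le_of_dvd (Nat.pos_of_ne_zero (by rw [relIndex]; exact Subgroup.index_ne_zero_of_finite)) h3)
  have := relIndex_le_of_le_right (H := A) (K := B) (L := ⊤) le_top
    (by rw [relIndex_top_right]; exact Subgroup.index_ne_zero_of_finite)
  rwa [relIndex_top_right] at this

/-- Subgroups of coprime index: `H = B A`. -/
theorem exists_mul_of_coprime_index {A B : Subgroup H} (hco : A.index.Coprime B.index) (h : H) :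
    ∃ x ∈ B, x⁻¹ * h ∈ A := by
  have hrel := relIndex_eq_index_of_coprime hco
  -- the map B → H ⧸ A, x ↦ x A
  let f : B ⧸ A.subgroupOf B → H ⧸ A := fun q => Quotient.liftOn' q
    (fun x => (QuotientGroup.mk (x : H) : H ⧸ A)) (fun a b hab => by
      rw [QuotientGroup.leftRel_apply, mem_subgroupOf] at hab
      exact QuotientGroup.eq.mpr hab)
  have hf : Function.Injective f := by
    intro a b
    refine Quotient.inductionOn₂' a b fun a b hab => ?_
    have h1 : (QuotientGroup.mk (a : H) : H ⧸ A) = QuotientGroup.mk (b : H) := hab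
    rw [QuotientGroup.eq] at h1
    exact Quotient.sound' (QuotientGroup.leftRel_apply.mpr (mem_subgroupOf.mpr h1))
  have hbij : Function.Bijective f := by
    haveI : Fintype (B ⧸ A.subgroupOf B) := Fintype.ofFinite _
    haveI : Fintype (H ⧸ A) := Fintype.ofFinite _
    rw [Fintype.bijective_iff_injective_and_card]
    refine ⟨hf, ?_⟩
    rw [← Nat.card_eq_fintype_card, ← Nat.card_eq_fintype_card]
    exact hrel
  obtain ⟨q, hq⟩ := hbij.2 (QuotientGroup.mk h)
  revert hq
  refine Quotient.inductionOn' q fun x hx => ?_
  have h1 : (QuotientGroup.mk (x : H) : H ⧸ A) = QuotientGroup.mk h := hx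
  rw [QuotientGroup.eq] at h1
  exact ⟨x, x.2, h1⟩

section Rep

variable {k V : Type*} [Field k] [AddCommGroup V] [Module k V]

/-- The stabilizer of a vector in a representation. -/
def repStab (ρ : Representation k H V) (a : V) : Subgroup H where
  carrier := {h | ρ h a = a}
  mul_mem' := fun {x y} hx hy => by
    show ρ (x * y) a = a
    rw [map_mul, Module.End.mul_apply, show ρ y a = a from hy, show ρ x a = a from hx]
  one_mem' := by show ρ 1 a = a; rw [map_one]; rfl
  inv_mem' := fun {x} hx => by
    show ρ x⁻¹ a = a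
    have h1 : ρ x⁻¹ (ρ x a) = a := ρ.inv_self_apply x a
    rwa [show ρ x a = a from hx] at h1

theorem mem_repStab (ρ : Representation k H V) (a : V) (h : H) :
    h ∈ repStab ρ a ↔ ρ h a = a := Iff.rfl

theorem repStab_key (ρ : Representation k H V) (a : V) (x y : H) :
    x⁻¹ * y ∈ repStab ρ a ↔ ρ x a = ρ y a := by
  rw [mem_repStab, map_mul, Module.End.mul_apply]
  constructor
  · intro h
    rw [← h, Representation.self_inv_apply, h]
  · intro h
    rw [← h, Representation.inv_self_apply]

theorem card_rep_orbit (ρ : Representation k H V) (a : V) :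
    Nat.card {u : V | ∃ h : H, ρ h a = u} = (repStab ρ a).index := by
  symm
  refine Nat.card_congr (Equiv.ofBijective
    (fun q : H ⧸ repStab ρ a => Quotient.liftOn' q
      (fun h => (⟨ρ h a, h, rfl⟩ : {u : V | ∃ h : H, ρ h a = u})) ?_) ⟨?_, ?_⟩)
  · intro x y hxy
    exact Subtype.ext ((repStab_key ρ a x y).mp (QuotientGroup.leftRel_apply.mp hxy))
  · intro x y
    refine Quotient.inductionOn₂' x y fun x y hxy => ?_
    exact Quotient.sound' (QuotientGroup.leftRel_apply.mpr ((repStab_key ρ a x y).mpr (congrArg Subtype.val hxy)))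
  · rintro ⟨u, h, rfl⟩
    exact ⟨Quotient.mk'' h, rfl⟩

end Rep

end Cfsg.Agent.H69
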