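import Cfsg.Agent.H69.ZStar
import Cfsg.Agent.Transfer.Fusion
import Cfsg.Agent.H47.Basic

/-!
# Abelian Sylow 2-subgroups and the Z*-theorem (helper69)
-/

set_option autoImplicit false
set_option linter.style.haveILetI false
set_option linter.unusedSectionVars false

namespace Cfsg.Agent.H69

open Subgroup Cfsg Pointwise

universe u

variable {X : Type u} [Group X] [Finite X]

/-- If `P` is an abelian Sylow subgroup and `I ≥ X'`, each `a ∈ P` can be corrected by an element
of `I ∩ P` to an element centralized by `N_X(P)`. -/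
theorem abelian_sylow_decomp {p : ℕ} [Fact p.Prime] (P : Sylow p X)
    (hab : IsMulCommutative (P : Subgroup X)) (I : Subgroup X)
    (hI : ∀ x y : X, x * y * x⁻¹ * y⁻¹ ∈ I) {a : X} (ha : a ∈ (P : Subgroup X)) :
    ∃ i ∈ I, i ∈ (P : Subgroup X) ∧ ∀ n ∈ normalizer ((P : Subgroup X) : Set X),
      n * (a * i) * n⁻¹ = a * i := by
  set N : Subgroup X := normalizer ((P : Subgroup X) : Set X) with hN
  have hPN : (P : Subgroup X) ≤ N := le_normalizer
  haveI hn : ((P : Subgroup X).subgroupOf N).Normal := normal_in_normalizer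
  have hcop : Nat.Coprime (Nat.card ((P : Subgroup X).subgroupOf N))
      ((P : Subgroup X).subgroupOf N).index := by
    obtain ⟨k, hk⟩ := (IsPGroup.iff_card (p := p)).mp P.2
    have h1 : Nat.card ((P : Subgroup X).subgroupOf N) = Nat.card (P : Subgroup X) :=
      Nat.card_congr (subgroupOfEquivOfLe hPN).toEquiv
    rw [h1, hk]
    apply Nat.Coprime.pow_left
    rw [(Fact.out : p.Prime).coprime_iff_not_dvd]
    intro hd
    exact P.not_dvd_index (hd.trans (by
      show (P : Subgroup X).relIndex N ∣ _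
      exact relIndex_dvd_index_of_le hPN))
  obtain ⟨K, hK⟩ := exists_right_complement'_of_coprime hcop
  set A : Subgroup X := K.map N.subtype with hA
  have hAN : A ≤ N := map_subtype_le K
  have hcardA : Nat.card A = ((P : Subgroup X).subgroupOf N).index := by
    rw [hA, Cop.card_map_subtype]; exact hK.symm.index_eq_card.symm
  have hPeq : ⁅(P : Subgroup X), A⁆ ⊔ ((P : Subgroup X) ⊓ centralizer (A : Set X)) = P := by
    apply Cop.commutator_sup_centralizer hAN
    · rw [hcardA]
      have h1 : Nat.card ((P : Subgroup X).subgroupOf N) = Nat.card (P : Subgroup X) :=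
        Nat.card_congr (subgroupOfEquivOfLe hPN).toEquiv
      rw [← h1]; exact hcop.symm
    · right
      haveI : Group.IsNilpotent (P : Subgroup X) := P.2.isNilpotent
      infer_instance
  have hcomP : ∀ x ∈ (P : Subgroup X), ∀ y ∈ (P : Subgroup X), x * y = y * x := by
    intro x hx y hy
    have := hab.is_comm.comm (⟨x, hx⟩ : (P : Subgroup X)) ⟨y, hy⟩
    exact congrArg Subtype.val this
  have h1 := ha
  rw [← SetLike.mem_coe, ← hPeq] at h1
  haveI hcn : (⁅(P : Subgroup X), A⁆.subgroupOf (P : Subgroup X)).Normal := by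
    constructor
    intro x hx y
    rw [mem_subgroupOf] at hx ⊢
    have : ((y * x * y⁻¹ : (P : Subgroup X)) : X) = (x : X) := by
      push_cast
      rw [hcomP y y.2 x x.2, mul_inv_cancel_right]
    rw [this]; exact hx
  have hle1 : ⁅(P : Subgroup X), A⁆ ≤ (P : Subgroup X) := le_sup_left.trans hPeq.le
  obtain ⟨u, hu, c, hc, huc⟩ : ∃ u ∈ ⁅(P : Subgroup X), A⁆, ∃ c ∈ (P : Subgroup X) ⊓
      centralizer (A : Set X), u * c = a := by
    have h2 : (P : Subgroup X) ⊓ centralizer (A : Set X) ≤
        normalizer ((⁅(P : Subgroup X), A⁆ : Subgroup X) : Set X) := by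
      intro c hc
      rw [mem_normalizer_iff]
      intro x
      constructor
      · intro hx
        rw [hcomP c hc.1 x (hle1 hx), mul_inv_cancel_right]; exact hx
      · intro hx
        have h3 := hcomP c hc.1 _ (hle1 hx)
        have h4 : c * x * c⁻¹ = x := by
          have : c * (c * x * c⁻¹) * c⁻¹ = c * x * c⁻¹ := by rw [h3]; group
          have h5 := mul_left_cancel (mul_right_cancel (b := c⁻¹) this)
          exact h5
        rw [← h4]; exact hx
    rw [SetLike.mem_coe] at h1
    exact (H47.mem_sup_of_le_normalizer' h2).mp (by rw [sup_comm]; exact h1)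
  have huI : u ∈ I := by
    have : ⁅(P : Subgroup X), A⁆ ≤ I := by
      rw [commutator_le]
      intro x _ y _
      exact hI x y
    exact this hu
  refine ⟨u⁻¹, inv_mem huI, inv_mem (hle1 hu), ?_⟩
  have hac : a * u⁻¹ = c := by
    rw [← huc, hcomP u (hle1 hu) c hc.1, mul_inv_cancel_right]
  rw [hac]
  intro n hn'
  have hsup : (⟨n, hn'⟩ : N) ∈ (P : Subgroup X).subgroupOf N ⊔ K := by
    rw [hK.sup_eq_top]; exact mem_top _
  rw [mem_sup_of_normal_left] at hsup
  obtain ⟨x, hx, k, hk, hxk⟩ := hsup
  have hxk' : (x : X) * (k : X) = n := congrArg Subtype.val hxk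
  rw [← hxk']
  have hkA : (k : X) ∈ A := ⟨k, hk, rfl⟩
  have h3 : (k : X) * c * (k : X)⁻¹ = c := by
    rw [mem_centralizer_iff.mp hc.2 k hkA, mul_inv_cancel_right]
  have h4 : (x : X) * c * (x : X)⁻¹ = c := by
    rw [hcomP x (mem_subgroupOf.mp hx) c hc.1, mul_inv_cancel_right]
  calc (x * k : X) * c * (x * k : X)⁻¹ = x * (k * c * (k : X)⁻¹) * (x : X)⁻¹ := by group
    _ = c := by rw [h3, h4]

/-- With an abelian Sylow 2-subgroup: elements of `P` centralized by `N(P)` are central
modulo `O(X)`. -/
theorem abelian_sylow_zstar (P : Sylow 2 X)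
    (hab : IsMulCommutative (P : Subgroup X)) {c : X} (hc : c ∈ (P : Subgroup X))
    (hfix : ∀ n ∈ normalizer ((P : Subgroup X) : Set X), n * c * n⁻¹ = c) (g : X) :
    g * c * g⁻¹ * c⁻¹ ∈ pPrimeCore 2 X := by
  apply zstar_gen (Nat.card X) X le_rfl P c hc
  intro g hg
  obtain ⟨n, hn, e⟩ := Transfer.controlsFusion_normalizer_of_isMulCommutative P hab c hc g hg
  rw [← e]; exact hfix n hn

end Cfsg.Agent.H69
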