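import Cfsg.Agent.Cop.Basic
import Cfsg.Agent.Transfer.NPC
import Cfsg.Agent.H91.CoprimeAb
import Mathlib.GroupTheory.SpecificGroups.ZGroup

/-!
# Coprime action on groups with cyclic Sylow subgroups (helper69)
-/

set_option autoImplicit false
set_option linter.style.haveILetI false
set_option linter.unusedSectionVars false

namespace Cfsg.Agent.H69

open Subgroup

variable {G : Type*} [Group G] [Finite G]

/-- A subgroup of a cyclic group `D` is normalized by the normalizer of `D`. -/
theorem conj_mem_zpowers_of_cyclic {D : Subgroup G} (hD : IsCyclic D) {k s : G}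
    (hk : k ∈ normalizer (D : Set G)) (hs : s ∈ D) : k * s * k⁻¹ ∈ zpowers s := by
  obtain ⟨⟨d, hd⟩, hgen⟩ := hD.exists_generator
  obtain ⟨m, hm⟩ := mem_zpowers_iff.mp (hgen ⟨s, hs⟩)
  have hm' : d ^ m = s := congrArg Subtype.val hm
  have hkd : k * d * k⁻¹ ∈ D := (mem_normalizer_iff.mp hk d).mp hd
  obtain ⟨j, hj⟩ := mem_zpowers_iff.mp (hgen ⟨_, hkd⟩)
  have hj' : d ^ j = k * d * k⁻¹ := congrArg Subtype.val hj
  refine mem_zpowers_iff.mpr ⟨j, ?_⟩
  rw [← hm', ← conj_zpow, ← hj', ← zpow_mul, ← zpow_mul, mul_comm]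

/-- `L` normalized by `K`, `L, S ≤ K`: `|L : L ∩ S|` divides `|K : S|`. -/
theorem relIndex_dvd_relIndex_of_le_normalizer {K L S : Subgroup G} (hLK : L ≤ K) (hSK : S ≤ K)
    (hKL : K ≤ normalizer (L : Set G)) : S.relIndex L ∣ S.relIndex K := by
  have h1 : L.relIndex (S ⊔ L) = L.relIndex S := Cop.relIndex_sup_eq (hSK.trans hKL)
  have c1 : Nat.card L * L.relIndex (S ⊔ L) = Nat.card (S ⊔ L : Subgroup G) := by
    have := (L.subgroupOf (S ⊔ L)).card_mul_index
    rwa [Nat.card_congr (Subgroup.subgroupOfEquivOfLe (le_sup_right : L ≤ S ⊔ L)).toEquiv] at this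
  have c2 : Nat.card S * S.relIndex (S ⊔ L) = Nat.card (S ⊔ L : Subgroup G) := by
    have := (S.subgroupOf (S ⊔ L)).card_mul_index
    rwa [Nat.card_congr (Subgroup.subgroupOfEquivOfLe (le_sup_left : S ≤ S ⊔ L)).toEquiv] at this
  have c3 : Nat.card (S ⊓ L : Subgroup G) * L.relIndex S = Nat.card S := by
    have := ((S ⊓ L).subgroupOf S).card_mul_index
    rw [Nat.card_congr (Subgroup.subgroupOfEquivOfLe (inf_le_left : S ⊓ L ≤ S)).toEquiv] at this
    rw [← inf_relIndex_right L S, inf_comm L S]
    exact this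
  have c4 : Nat.card (S ⊓ L : Subgroup G) * S.relIndex L = Nat.card L := by
    have := ((S ⊓ L).subgroupOf L).card_mul_index
    rw [Nat.card_congr (Subgroup.subgroupOfEquivOfLe (inf_le_right : S ⊓ L ≤ L)).toEquiv] at this
    rw [← inf_relIndex_right]
    exact this
  have hpos2 : 0 < Nat.card S := Nat.card_pos
  have h2 : S.relIndex (S ⊔ L) = S.relIndex L := by
    have e1 : Nat.card S * S.relIndex (S ⊔ L) = Nat.card S * S.relIndex L := by
      rw [c2, ← c1, h1, ← c4, ← c3]; ring
    exact Nat.eq_of_mul_eq_mul_left hpos2 e1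
  rw [← h2, ← relIndex_mul_relIndex S (S ⊔ L) K le_sup_left (sup_le hSK hLK)]
  exact dvd_mul_right _ _

/-- A Sylow subgroup of a normal subgroup by intersection. -/
theorem exists_sylow_inf {p : ℕ} [Fact p.Prime] {K L : Subgroup G} (hLK : L ≤ K)
    (hKL : K ≤ normalizer (L : Set G)) (P : Sylow p K) :
    ∃ P₁ : Sylow p L, (P₁ : Subgroup L).map L.subtype = (P : Subgroup K).map K.subtype ⊓ L := by
  set S := (P : Subgroup K).map K.subtype with hS
  have hSK : S ≤ K := map_subtype_le _
  have hSp : IsPGroup p S := P.2.map _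
  have hidx : ¬ p ∣ (S.subgroupOf L).index := by
    intro h
    have h1 : p ∣ S.relIndex K := h.trans (relIndex_dvd_relIndex_of_le_normalizer hLK hSK hKL)
    have h2 : S.subgroupOf K = (P : Subgroup K) := by
      rw [hS, subgroupOf, comap_map_eq_self_of_injective K.subtype_injective]
    rw [relIndex, h2] at h1
    exact P.not_dvd_index h1
  have hp : IsPGroup p (S.subgroupOf L) := hSp.comap_of_injective L.subtype L.subtype_injective
  refine ⟨hp.toSylow hidx, ?_⟩
  have h1 : ((hp.toSylow hidx : Sylow p L) : Subgroup L) = S.subgroupOf L := rfl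
  rw [h1, subgroupOf_map_subtype]

/-- A coprime group of operators of a cyclic `p`-group fixing a nontrivial element is trivial. -/
theorem le_centralizer_of_cyclic {q : ℕ} [Fact q.Prime] {A S : Subgroup G} (hS : IsCyclic S)
    (hSq : IsPGroup q S) (hAS : A ≤ normalizer (S : Set G))
    (hcop : (Nat.card A).Coprime (Nat.card S)) {u : G} (hu : u ∈ S) (hu1 : u ≠ 1)
    (huA : u ∈ centralizer (A : Set G)) : A ≤ centralizer (S : Set G) := by
  haveI := hS
  rcases hSq.commutator_eq_bot_or_commutator_eq_self hAS hcop.symm with h | h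
  · exact commutator_eq_bot_iff_le_centralizer.mp h
  · exfalso
    haveI : IsMulCommutative S := inferInstance
    have h1 := (H91.abelian_decomp A S hAS hcop).1
    rw [commutator_comm, h] at h1
    have h2 : u ∈ S ⊓ centralizer (A : Set G) ⊓ S := ⟨⟨hu, huA⟩, hu⟩
    rw [h1, mem_bot] at h2
    exact hu1 h2

/-- Coprime action on a group with cyclic Sylow subgroups: fixed points and commutator have
coprime orders. -/
theorem coprime_card_fix_commutator {A K : Subgroup G} (hAK : A ≤ normalizer (K : Set G))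
    (hcop : (Nat.card A).Coprime (Nat.card K)) [hZ : IsZGroup K] :
    (Nat.card (K ⊓ centralizer (A : Set G) : Subgroup G)).Coprime (Nat.card (⁅K, A⁆ : Subgroup G)) := by
  have hsol : Group.IsSolvable K := inferInstance
  apply Nat.coprime_of_dvd
  intro q hq hqC hqL
  haveI : Fact q.Prime := ⟨hq⟩
  set L : Subgroup G := ⁅K, A⁆ with hL
  have hLK : L ≤ K := le_normalizer_iff_commutator_le_left.1 hAK
  have hKL : K ≤ normalizer (L : Set G) := normalizer_commutator_ge_left K A
  have hAL : A ≤ normalizer (L : Set G) := normalizer_commutator_ge_right K A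
  -- an element of order q fixed by A
  obtain ⟨u, hu⟩ := exists_prime_orderOf_dvd_card' q hqC
  have hu' : orderOf (u : G) = q := by rw [orderOf_coe]; exact hu
  have huU : IsPGroup q (zpowers (u : G)) := by
    rw [IsPGroup.iff_card]; exact ⟨1, by rw [Nat.card_zpowers, hu', pow_one]⟩
  have huA : A ≤ normalizer ((zpowers (u : G) : Subgroup G) : Set G) := by
    intro a ha
    rw [mem_normalizer_iff]
    have hc : ∀ x ∈ zpowers (u : G), a * x * a⁻¹ = x := by
      intro x hx
      obtain ⟨m, rfl⟩ := mem_zpowers_iff.mp hx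
      have h1 : a * (u : G) = u * a := (mem_centralizer_iff.mp u.2.2 a ha)
      have h2 : Commute a (u : G) := h1
      rw [(h2.zpow_right m).eq]; group
    intro x
    constructor
    · intro hx; rw [hc x hx]; exact hx
    · intro hx
      have h3 : a⁻¹ * (a * x * a⁻¹) * a = a * x * a⁻¹ := by
        have := hc _ hx
        rw [mul_inv_eq_iff_eq_mul] at this
        rw [mul_assoc, ← this]; group
      have h4 : x = a * x * a⁻¹ := by rw [← h3]; group
      rw [h4]; exact hx
  obtain ⟨P, hUP, hAP⟩ := Cop.exists_invariant_sylow_ge hAK hcop (Or.inr hsol) q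
    (zpowers_le.mpr u.2.1) huU huA
  set S := (P : Subgroup K).map K.subtype with hS
  have hSp : IsPGroup q S := P.2.map _
  have hScyc : IsCyclic S := by
    haveI : IsCyclic (P : Subgroup K) := inferInstance
    exact isCyclic_of_surjective _ ((P : Subgroup K).equivMapOfInjective _ K.subtype_injective).surjective
  have hSK : S ≤ K := map_subtype_le _
  have hcopS : (Nat.card A).Coprime (Nat.card S) :=
    Nat.Coprime.coprime_dvd_right (card_dvd_of_le hSK) hcop
  have hu1 : (u : G) ≠ 1 := by
    intro h; rw [h, orderOf_one] at hu'; exact hq.one_lt.ne hu'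
  have hAS : A ≤ centralizer (S : Set G) :=
    le_centralizer_of_cyclic hScyc hSp hAP hcopS (hUP (mem_zpowers _)) hu1 u.2.2
  obtain ⟨P₁, hP₁⟩ := exists_sylow_inf hLK hKL P
  haveI : IsZGroup L := IsZGroup.of_injective (f := Subgroup.inclusion hLK) (Subgroup.inclusion_injective hLK)
  -- Burnside for L
  have hburn : normalizer ((P₁ : Subgroup L) : Set L) ≤ centralizer ((P₁ : Subgroup L) : Set L) := by
    rcases P₁.normalizer_le_centralizer_or_le_commutator with h | h
    · exact h
    · have hD : IsCyclic (⁅K, K⁆ : Subgroup G) := by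
        have h1 : IsCyclic (commutator K) := IsZGroup.isCyclic_commutator K
        have h2 : (commutator K).map K.subtype = ⁅K, K⁆ := map_subtype_commutator K
        rw [← h2]
        exact isCyclic_of_surjective _
          ((commutator K).equivMapOfInjective _ K.subtype_injective).surjective
      have hSD : S ⊓ L ≤ ⁅K, K⁆ := by
        rw [← hP₁]
        refine (map_mono h).trans ?_
        rw [map_subtype_commutator]
        exact commutator_mono hLK hLK
      have hSLK : ⁅S ⊓ L, K⁆ ≤ S ⊓ L := by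
        rw [commutator_comm, commutator_le]
        intro k hk s hs
        refine mul_mem ?_ (inv_mem hs)
        have h3 : k ∈ normalizer ((⁅K, K⁆ : Subgroup G) : Set G) :=
          normalizer_commutator_ge_left K K hk
        exact (zpowers_le.mpr hs) (conj_mem_zpowers_of_cyclic hD h3 (hSD hs))
      have hbotA : ⁅S ⊓ L, A⁆ = ⊥ := by
        rw [commutator_comm, commutator_eq_bot_iff_le_centralizer]
        exact hAS.trans (centralizer_le inf_le_left)
      have e1 : ⁅⁅A, S ⊓ L⁆, K⁆ = ⊥ := by
        rw [commutator_comm A, hbotA, commutator_bot_left]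
      have e2 : ⁅⁅S ⊓ L, K⁆, A⁆ = ⊥ := by
        rw [eq_bot_iff, ← hbotA]; exact commutator_mono hSLK le_rfl
      have e3 : ⁅L, S ⊓ L⁆ = ⊥ := commutator_commutator_eq_bot_of_rotate e1 e2
      rw [commutator_eq_bot_iff_le_centralizer] at e3
      intro x _
      rw [mem_centralizer_iff]
      intro y hy
      have hy' : (y : G) ∈ S ⊓ L := by rw [← hP₁]; exact ⟨y, hy, rfl⟩
      exact Subtype.ext (mem_centralizer_iff.mp (e3 x.2) y hy')
  have hcompl := MonoidHom.ker_transferSylow_isComplement' P₁ hburn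
  set N := (MonoidHom.transferSylow P₁ hburn).ker with hN
  have hmem := fun x => Transfer.mem_complement_iff P₁ N hcompl x
  have hcardN := (Transfer.card_index_of_isComplement' hcompl).1
  -- A acts trivially on L / N
  have hLA : ⁅L, A⁆ ≤ N.map L.subtype := by
    rw [commutator_le]
    intro l hl a ha
    obtain ⟨⟨⟨r, hr⟩, ⟨s, hs⟩⟩, hrs⟩ := (isComplement_iff_existsUnique.mp hcompl ⟨l, hl⟩).exists
    have hrs' : (r : G) * (s : G) = l := congrArg Subtype.val hrs
    have hsS : (s : G) ∈ S := by
      have : (s : G) ∈ S ⊓ L := by rw [← hP₁]; exact ⟨s, hs, rfl⟩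
      exact this.1
    have hsa : a * (s : G) = s * a := (mem_centralizer_iff.mp (hAS ha) s hsS).symm
    have hrA : a * (r : G)⁻¹ * a⁻¹ ∈ L := (mem_normalizer_iff.mp (hAL ha) _).mp (inv_mem r.2)
    have h1 : l * a * l⁻¹ * a⁻¹ = (r : G) * (a * (r : G)⁻¹ * a⁻¹) := by
      rw [← hrs', mul_inv_rev]
      calc (r : G) * s * a * ((s : G)⁻¹ * (r : G)⁻¹) * a⁻¹
          = r * (s * a) * (s : G)⁻¹ * (r : G)⁻¹ * a⁻¹ := by group
        _ = r * (a * s) * (s : G)⁻¹ * (r : G)⁻¹ * a⁻¹ := by rw [hsa]
        _ = _ := by group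
    show l * a * l⁻¹ * a⁻¹ ∈ N.map L.subtype
    rw [h1]
    refine mul_mem ⟨r, hr, rfl⟩ ⟨⟨_, hrA⟩, ?_, rfl⟩
    rw [SetLike.mem_coe, hmem]
    have h2 : orderOf (⟨a * (r : G)⁻¹ * a⁻¹, hrA⟩ : L) = orderOf r := by
      rw [← orderOf_coe, ← orderOf_coe r]
      show orderOf (a * (r : G)⁻¹ * a⁻¹) = _
      rw [← orderOf_inv (r : G)]
      exact (MulAut.conj a).orderOf_eq (r : G)⁻¹
    rw [h2]
    exact (hmem r).mp hr
  rw [Cop.commutator_commutator_eq hAK hcop (Or.inr hsol)] at hLA
  have h5 : Nat.card L ∣ Nat.card N := by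
    have := card_dvd_of_le hLA
    rwa [Cop.card_map_subtype] at this
  exact hq.one_lt.ne' (Nat.Coprime.eq_one_of_dvd hcardN.symm (hqL.trans h5))

end Cfsg.Agent.H69
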