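import Cfsg.Agent.H69.Basic

/-!
# Conjugation orbits and indices of centralizers (helper69)
-/

set_option autoImplicit false
set_option linter.style.haveILetI false
set_option linter.unusedSectionVars false

namespace Cfsg.Agent.H69

open Subgroup

variable {G : Type*} [Group G]

/-- The `T`-orbit of `x` under conjugation has size `|T : T ∩ C(x)|`. -/
theorem card_conj_orbit (T : Subgroup G) (x : G) :
    Nat.card {y : G // ∃ g ∈ T, y = g * x * g⁻¹} = (centralizer ({x} : Set G)).relIndex T := by
  rw [relIndex, Subgroup.index]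
  symm
  have key : ∀ a b : T, (a⁻¹ * b ∈ (centralizer ({x} : Set G)).subgroupOf T) ↔
      (a : G) * x * (a : G)⁻¹ = (b : G) * x * (b : G)⁻¹ := by
    intro a b
    rw [mem_subgroupOf, mem_cent_singleton]
    push_cast
    constructor
    · intro h
      calc (a : G) * x * (a : G)⁻¹ = a * (x * ((a : G)⁻¹ * b)) * (b : G)⁻¹ := by group
        _ = a * ((a : G)⁻¹ * b * x) * (b : G)⁻¹ := by rw [h]
        _ = _ := by group
    · intro h
      calc x * ((a : G)⁻¹ * b) = (a : G)⁻¹ * (a * x * (a : G)⁻¹) * b := by group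
        _ = (a : G)⁻¹ * (b * x * (b : G)⁻¹) * b := by rw [h]
        _ = _ := by group
  refine Nat.card_congr (Equiv.ofBijective
    (fun q : T ⧸ (centralizer ({x} : Set G)).subgroupOf T =>
      Quotient.liftOn' q (fun t : T => (⟨(t : G) * x * (t : G)⁻¹, t, t.2, rfl⟩ :
        {y : G // ∃ g ∈ T, y = g * x * g⁻¹})) ?_) ⟨?_, ?_⟩)
  · intro a b hab
    exact Subtype.ext ((key a b).mp (QuotientGroup.leftRel_apply.mp hab))
  · intro a b
    refine Quotient.inductionOn₂' a b fun a b hab => ?_
    have := congrArg Subtype.val hab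
    exact Quotient.sound' (QuotientGroup.leftRel_apply.mpr ((key a b).mpr this))
  · rintro ⟨y, g, hg, rfl⟩
    exact ⟨Quotient.mk'' ⟨g, hg⟩, rfl⟩

theorem card_conj_class (x : G) :
    Nat.card {y : G // ∃ g : G, y = g * x * g⁻¹} = (centralizer ({x} : Set G)).index := by
  rw [← relIndex_top_right, ← card_conj_orbit ⊤ x]
  refine Nat.card_congr (Equiv.subtypeEquivRight fun y => ?_)
  simp

theorem relIndex_cent_le [Finite G] (T : Subgroup G) (x : G) (S : Set G)
    (hS : ∀ g ∈ T, g * x * g⁻¹ ∈ S) : (centralizer ({x} : Set G)).relIndex T ≤ Nat.card S := by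
  rw [← card_conj_orbit]
  refine Nat.card_le_card_of_injective
    (fun y : {y : G // ∃ g ∈ T, y = g * x * g⁻¹} => (⟨y.1, by
      obtain ⟨g, hg, h⟩ := y.2
      rw [h]; exact hS g hg⟩ : S)) ?_
  intro a b hab
  exact Subtype.ext (congrArg (fun t => t.1) hab)

end Cfsg.Agent.H69
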