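import Mathlib.GroupTheory.SpecificGroups.Quaternion
import Mathlib.Tactic

/-!
# Basic facts on generalized quaternion groups (helper69)
-/

set_option autoImplicit false
set_option linter.style.haveILetI false

namespace Cfsg.Agent.H69

open QuaternionGroup

theorem quat_mul_self_eq_one {m : ℕ} [NeZero m] (w : QuaternionGroup m) (hw : w * w = 1) :
    w = 1 ∨ w = a (m : ZMod (2 * m)) := by
  haveI : NeZero (2 * m) := ⟨by have := NeZero.ne m; omega⟩
  have hm : 0 < m := Nat.pos_of_ne_zero (NeZero.ne m)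
  cases w with
  | a i =>
    rw [a_mul_a, one_def] at hw
    have h1 : i + i = 0 := by injection hw
    have h2 : ((2 * i.val : ℕ) : ZMod (2 * m)) = 0 := by
      push_cast
      rw [ZMod.natCast_zmod_val]
      linear_combination h1
    rw [ZMod.natCast_eq_zero_iff] at h2
    have h3 : m ∣ i.val := Nat.dvd_of_mul_dvd_mul_left (by norm_num) h2
    have h4 : i.val < 2 * m := ZMod.val_lt i
    obtain ⟨c, hc⟩ := h3
    have h5 : c < 2 := by
      by_contra h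
      push Not at h
      nlinarith
    have h6 : i = ((i.val : ℕ) : ZMod (2 * m)) := (ZMod.natCast_zmod_val i).symm
    interval_cases c
    · left; rw [h6, hc, mul_zero, Nat.cast_zero, a_zero]
    · right; rw [h6, hc, mul_one]
  | xa i =>
    exfalso
    rw [xa_mul_xa, one_def] at hw
    have h1 : (m : ZMod (2 * m)) + i - i = 0 := by injection hw
    rw [add_sub_cancel_right, ZMod.natCast_eq_zero_iff] at h1
    have := Nat.le_of_dvd hm h1
    omega

/-- the involution of `Q_{4m}`, `m` even, is a commutator -/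
theorem quat_commutator (n : ℕ) (hn : 1 ≤ n) : ∃ x y : QuaternionGroup (2 ^ n),
    x * y * x⁻¹ * y⁻¹ = a ((2 ^ n : ℕ) : ZMod (2 * 2 ^ n)) := by
  refine ⟨a (((2 ^ (n - 1) : ℕ) : ZMod (2 * 2 ^ n))), xa 0, ?_⟩
  have h1 : (a (((2 ^ (n - 1) : ℕ) : ZMod (2 * 2 ^ n))) : QuaternionGroup (2 ^ n))⁻¹ =
      a (-((2 ^ (n - 1) : ℕ) : ZMod (2 * 2 ^ n))) := rfl
  have h2 : (xa 0 : QuaternionGroup (2 ^ n))⁻¹ = xa (((2 ^ n : ℕ) : ZMod (2 * 2 ^ n)) + 0) := rfl
  rw [h1, h2, a_mul_xa, xa_mul_a, xa_mul_xa]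
  congr 1
  have h3 : ((2 ^ n : ℕ) : ZMod (2 * 2 ^ n)) + ((2 ^ n : ℕ) : ZMod (2 * 2 ^ n)) = 0 := by
    have h0 : ((2 * 2 ^ n : ℕ) : ZMod (2 * 2 ^ n)) = 0 := ZMod.natCast_self _
    have h1 : ((2 ^ n + 2 ^ n : ℕ) : ZMod (2 * 2 ^ n)) = ((2 * 2 ^ n : ℕ) : ZMod (2 * 2 ^ n)) := by
      congr 1; omega
    rw [Nat.cast_add] at h1
    exact h1.trans h0
  have h4 : ((2 ^ (n - 1) : ℕ) : ZMod (2 * 2 ^ n)) + ((2 ^ (n - 1) : ℕ) : ZMod (2 * 2 ^ n)) =
      ((2 ^ n : ℕ) : ZMod (2 * 2 ^ n)) := by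
    rw [← Nat.cast_add]
    congr 1
    obtain ⟨k, rfl⟩ : ∃ k, n = k + 1 := ⟨n - 1, by omega⟩
    rw [Nat.add_sub_cancel, pow_succ]; ring
  generalize hA : ((2 ^ n : ℕ) : ZMod (2 * 2 ^ n)) = A at *
  generalize hB : ((2 ^ (n - 1) : ℕ) : ZMod (2 * 2 ^ n)) = B at *
  linear_combination h3 + h4

theorem quat_a_ne_one {m : ℕ} [NeZero m] : (a (m : ZMod (2 * m)) : QuaternionGroup m) ≠ 1 := by
  have hm : 0 < m := Nat.pos_of_ne_zero (NeZero.ne m)
  intro h
  rw [one_def] at h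
  have h1 : (m : ZMod (2 * m)) = 0 := by injection h
  rw [ZMod.natCast_eq_zero_iff] at h1
  have := Nat.le_of_dvd hm h1
  omega

end Cfsg.Agent.H69
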