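import Mathlib
import Cfsg.Agent.H37.BEE
import Cfsg.Agent.H30.BendG
import Cfsg.Agent.H80.StrongEmb
import Cfsg.Agent.H80.SylowIn
import Cfsg.Agent.H69.L28

/-!
# Strongly embedded subgroups which are 2-closed modulo the core, elementary abelian Sylow 2-subgroups (helper69)
-/

set_option autoImplicit false
set_option linter.unusedSectionVars false

namespace Cfsg.Agent.H69.SEE

open Subgroup Cfsg MulAction
open Cfsg.Agent.H64.Bend
open scoped Pointwise

universe u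

structure Hyp (G : Type u) [Group G] (S : Sylow 2 G) (W : Subgroup G) : Prop where
  sq : ∀ x ∈ (S : Subgroup G), x * x = 1
  odd : Odd (Nat.card W)
  norm : normalizer ((S : Subgroup G) : Set G) ≤ normalizer (W : Set G)
  cent : ∀ a ∈ (S : Subgroup G), a ≠ 1 → centralizer ({a} : Set G) ≤ normalizer ((S : Subgroup G) : Set G) ⊔ W
  simple : ∀ N : Subgroup G, N.Normal → N = ⊥ ∨ N = ⊤
  nab : ¬ ∀ x y : G, x * y = y * x
  four : 4 ≤ Nat.card (S : Subgroup G)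

namespace Hyp

variable {G : Type u} [Group G] [Finite G] {S : Sylow 2 G} {W : Subgroup G} (h : Hyp G S W)
include h

def H (_ : Hyp G S W) : Subgroup G := normalizer ((S : Subgroup G) : Set G) ⊔ W

theorem inv {x : G} (hx : x ∈ (S : Subgroup G)) : x⁻¹ = x := inv_eq_of_mul_eq_one_left (h.sq x hx)

theorem comm {x y : G} (hx : x ∈ (S : Subgroup G)) (hy : y ∈ (S : Subgroup G)) : x * y = y * x := by
  have h1 := h.inv (Subgroup.mul_mem _ hx hy)
  rw [mul_inv_rev, h.inv hx, h.inv hy] at h1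
  exact h1.symm

theorem mem_H {g : G} : g ∈ h.H ↔ ∃ n ∈ normalizer ((S : Subgroup G) : Set G), ∃ w ∈ W, n * w = g := by
  have h1 : (↑(normalizer ((S : Subgroup G) : Set G) ⊔ W) : Set G) =
      (normalizer ((S : Subgroup G) : Set G) : Set G) * (W : Set G) :=
    Subgroup.coe_mul_of_left_le_normalizer_right _ W h.norm
  have h2 : g ∈ h.H ↔ g ∈ (↑(normalizer ((S : Subgroup G) : Set G) ⊔ W) : Set G) := Iff.rfl
  rw [h2, h1, Set.mem_mul]
  rfl

theorem N_le : normalizer ((S : Subgroup G) : Set G) ≤ h.H := le_sup_left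
theorem S_le : (S : Subgroup G) ≤ h.H := le_normalizer.trans h.N_le
theorem W_le : W ≤ h.H := le_sup_right
theorem H_le_norm : h.H ≤ normalizer (W : Set G) := sup_le h.norm le_normalizer

theorem conjW {g w : G} (hg : g ∈ normalizer (W : Set G)) (hw : w ∈ W) : g * w * g⁻¹ ∈ W :=
  (Subgroup.mem_normalizer_iff.1 hg w).1 hw

theorem conjW' {g w : G} (hg : g ∈ normalizer (W : Set G)) (hw : w ∈ W) : g⁻¹ * w * g ∈ W := by
  have := h.conjW (inv_mem hg) hw
  rwa [inv_inv] at this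

theorem S_norm {s : G} (hs : s ∈ (S : Subgroup G)) : s ∈ normalizer (W : Set G) :=
  h.norm (le_normalizer hs)

theorem S_ne_bot : (S : Subgroup G) ≠ ⊥ := by
  intro h1
  have := h.four
  rw [h1, Subgroup.card_bot] at this
  omega

theorem even_G : Even (Nat.card G) := by
  obtain ⟨k, hk⟩ := IsPGroup.iff_card.1 S.2
  have h4 := h.four
  have : k ≠ 0 := by rintro rfl; rw [hk] at h4; norm_num at h4
  have h1 : 2 ∣ Nat.card (S : Subgroup G) := by rw [hk]; exact dvd_pow_self 2 this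
  exact even_iff_two_dvd.2 (h1.trans (Subgroup.card_subgroup_dvd_card _))

theorem H_ne_top : h.H ≠ ⊤ := by
  intro htop
  have hWn : W.Normal := by
    rw [← Subgroup.normalizer_eq_top_iff, eq_top_iff, ← htop]
    exact h.H_le_norm
  rcases h.simple W hWn with h1 | h1
  · have h2 : normalizer ((S : Subgroup G) : Set G) = ⊤ := by
      have h3 : normalizer ((S : Subgroup G) : Set G) ⊔ W = ⊤ := htop
      rwa [h1, sup_bot_eq] at h3
    have hSn : (S : Subgroup G).Normal := by rw [← Subgroup.normalizer_eq_top_iff, h2]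
    rcases h.simple _ hSn with h3 | h3
    · exact h.S_ne_bot h3
    · apply h.nab
      intro x y
      exact h.comm (by rw [h3]; exact mem_top x) (by rw [h3]; exact mem_top y)
  · have h2 := h.odd
    have h3 : Nat.card W = Nat.card G := by rw [h1, Subgroup.card_top]
    rw [h3] at h2
    exact (Nat.not_even_iff_odd.2 h2) h.even_G

theorem exists_conj_S {x : G} (hx : x ∈ h.H) (hx2 : ∃ j : ℕ, x ^ 2 ^ j = 1) :
    ∃ k ∈ h.H, k * x * k⁻¹ ∈ (S : Subgroup G) := by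
  haveI : Fact (Nat.Prime 2) := ⟨Nat.prime_two⟩
  have h1 : H80.IsSylowIn 2 (S : Subgroup G) h.H := H80.isSylowIn_of_le S h.S_le
  have h2 : IsPGroup 2 (zpowers x) := by
    obtain ⟨j, hj⟩ := hx2
    refine IsPGroup.of_card_dvd_pow (n := j) ?_
    rw [Nat.card_zpowers]
    exact orderOf_dvd_of_pow_eq_one hj
  obtain ⟨k, hk, hle⟩ := h1.exists_conj_le h2 (by rw [zpowers_le]; exact hx)
  refine ⟨k, hk, hle ?_⟩
  rw [H80.mem_cj]
  have e : k⁻¹ * (k * x * k⁻¹) * k = x := by group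
  rw [e]
  exact mem_zpowers x

theorem exists_SW {x : G} (hx : x ∈ h.H) (hx2 : ∃ j : ℕ, x ^ 2 ^ j = 1) :
    ∃ s ∈ (S : Subgroup G), ∃ w ∈ W, x = s * w := by
  obtain ⟨k, hk, hks⟩ := h.exists_conj_S hx hx2
  obtain ⟨n, hn, w, hw, rfl⟩ := h.mem_H.1 hk
  obtain ⟨s, hs⟩ : ∃ s, s = n * w * x * (n * w)⁻¹ := ⟨_, rfl⟩
  rw [← hs] at hks
  have h1 : n⁻¹ * s * n ∈ (S : Subgroup G) := by
    have := (Subgroup.mem_normalizer_iff.1 (inv_mem hn) s).1 hks
    rwa [inv_inv] at this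
  refine ⟨n⁻¹ * s * n, h1, (n⁻¹ * s * n)⁻¹ * w⁻¹ * (n⁻¹ * s * n) * w, ?_, ?_⟩
  · exact W.mul_mem (h.conjW' (h.S_norm h1) (W.inv_mem hw)) hw
  · rw [hs]; group

theorem sq_of_two {x : G} (hx : x ∈ h.H) (hx2 : ∃ j : ℕ, x ^ 2 ^ j = 1) : x * x = 1 := by
  obtain ⟨k, hk, hks⟩ := h.exists_conj_S hx hx2
  have h1 := h.sq _ hks
  calc x * x = k⁻¹ * (k * x * k⁻¹ * (k * x * k⁻¹)) * k := by group
    _ = 1 := by rw [h1]; group

theorem strongly : IsStronglyEmbedded h.H := by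
  have hev : Even (Nat.card h.H) := by
    obtain ⟨x, hx1, hx2⟩ : ∃ x ∈ (S : Subgroup G), x ≠ 1 := by
      by_contra hcon
      push Not at hcon
      exact h.S_ne_bot ((Subgroup.eq_bot_iff_forall _).2 hcon)
    exact H80.even_card_of_involution_mem (h.S_le hx1)
      (orderOf_eq_prime (by rw [pow_two]; exact h.sq x hx1) hx2)
  rw [H80.stronglyEmbedded_iff h.H_ne_top hev]
  intro t ht ht2 g hg
  have ht1 : t ≠ 1 := by rintro rfl; rw [orderOf_one] at ht2; omega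
  have htp : t ^ 2 ^ 1 = 1 := by rw [pow_one, ← ht2]; exact pow_orderOf_eq_one t
  have htp' : (g⁻¹ * t * g) ^ 2 ^ 1 = 1 := by
    have := conj_pow (i := 2 ^ 1) (a := g⁻¹) (b := t)
    rw [inv_inv] at this
    rw [this, htp]; group
  obtain ⟨h1, hh1, hs1⟩ := h.exists_conj_S ht ⟨1, htp⟩
  obtain ⟨h2, hh2, hs2⟩ := h.exists_conj_S hg ⟨1, htp'⟩
  haveI : IsMulCommutative (S : Subgroup G) :=
    ⟨⟨fun x y => Subtype.ext (h.comm x.2 y.2)⟩⟩
  obtain ⟨k, hk⟩ : ∃ k, k = h1 * g * h2⁻¹ := ⟨_, rfl⟩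
  have e1 : k⁻¹ * (h1 * t * h1⁻¹) * k = h2 * (g⁻¹ * t * g) * h2⁻¹ := by rw [hk]; group
  haveI : Fact (Nat.Prime 2) := ⟨Nat.prime_two⟩
  obtain ⟨n, hn, e2⟩ := S.conj_eq_normalizer_conj_of_mem (h1 * t * h1⁻¹) k hs1 (by rw [e1]; exact hs2)
  have h3 : k * n⁻¹ ∈ centralizer ({h1 * t * h1⁻¹} : Set G) := by
    rw [mem_cent_singleton]
    calc h1 * t * h1⁻¹ * (k * n⁻¹) = k * (k⁻¹ * (h1 * t * h1⁻¹) * k) * n⁻¹ := by group
      _ = k * (n⁻¹ * (h1 * t * h1⁻¹) * n) * n⁻¹ := by rw [e2]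
      _ = k * n⁻¹ * (h1 * t * h1⁻¹) := by group
  have h4 : k * n⁻¹ ∈ h.H := by
    refine h.cent _ hs1 ?_ h3
    intro h5
    apply ht1
    calc t = h1⁻¹ * (h1 * t * h1⁻¹) * h1 := by group
      _ = 1 := by rw [h5]; group
  have h5 : g = h1⁻¹ * (k * n⁻¹ * n) * h2 := by rw [hk]; group
  rw [h5]
  exact mul_mem (mul_mem (inv_mem hh1) (mul_mem h4 (h.N_le hn))) hh2

/-- the base point -/
def pt : G ⧸ h.H := QuotientGroup.mk 1

theorem smul_pt {g : G} : g • h.pt = h.pt ↔ g ∈ h.H := by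
  unfold pt
  rw [Cfsg.Agent.StrEmb.smul_mk_eq_iff, inv_one, one_mul, mul_one]

theorem stab : stabilizer G h.pt = h.H := by
  ext g
  rw [mem_stabilizer_iff, h.smul_pt]

theorem bset : BSet G (G ⧸ h.H) := bset_of_stronglyEmbedded h.strongly

theorem mem_Ia {t : G} : t ∈ Ia G h.pt ↔ Iv t ∧ t ∈ h.H := by
  constructor
  · rintro ⟨h1, h2⟩; exact ⟨h1, h.smul_pt.1 h2⟩
  · rintro ⟨h1, h2⟩; exact ⟨h1, h.smul_pt.2 h2⟩

theorem iv_of_S {x : G} (hx : x ∈ (S : Subgroup G)) (hx1 : x ≠ 1) : Iv x := ⟨h.sq x hx, hx1⟩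

theorem two_of_iv {t : G} (ht : Iv t) : ∃ j : ℕ, t ^ 2 ^ j = 1 := ⟨1, by rw [pow_one, pow_two]; exact ht.1⟩

theorem sq_mem_W {s t : G} (hs : s ∈ h.H) (ht : t ∈ h.H) (hs2 : Iv s) (ht2 : Iv t) : (s * t) ^ 2 ^ 1 ∈ W := by
  obtain ⟨x, hx, v, hv, rfl⟩ := h.exists_SW hs (h.two_of_iv hs2)
  obtain ⟨y, hy, w, hw, rfl⟩ := h.exists_SW ht (h.two_of_iv ht2)
  obtain ⟨z, hz⟩ : ∃ z, z = x * y := ⟨_, rfl⟩
  have hzS : z ∈ (S : Subgroup G) := by rw [hz]; exact Subgroup.mul_mem _ hx hy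
  obtain ⟨r, hr⟩ : ∃ r, r = y⁻¹ * v * y * w := ⟨_, rfl⟩
  have hrW : r ∈ W := by rw [hr]; exact W.mul_mem (h.conjW' (h.S_norm hy) hv) hw
  have e1 : x * v * (y * w) = z * r := by rw [hz, hr]; group
  rw [e1, pow_one, pow_two]
  have e2 : z * r * (z * r) = (z * r * z⁻¹) * (z * z) * r := by group
  rw [e2, h.sq z hzS, mul_one]
  exact W.mul_mem (h.conjW (h.S_norm hzS) hrW) hrW

theorem xc : H37.BE.XC G h.pt W where
  nor := by
    intro g hg x hx
    rw [h.stab] at hg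
    exact h.conjW (h.H_le_norm hg) hx
  odd := h.odd
  two := by
    intro s hs t ht
    exact ⟨1, h.sq_mem_W (h.mem_Ia.1 hs).2 (h.mem_Ia.1 ht).2 hs.1 ht.1⟩

/-- two different involutions of `S` -/
theorem exists_two : ∃ x ∈ (S : Subgroup G), ∃ y ∈ (S : Subgroup G), x ≠ 1 ∧ y ≠ 1 ∧ x ≠ y := by
  classical
  have h1 : 2 < ((S : Subgroup G) : Set G).ncard := lt_of_lt_of_le (by norm_num) h.four
  rw [Set.two_lt_ncard] at h1
  obtain ⟨a, ha, b, hb, c, hc, hab, hac, hbc⟩ := h1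
  by_cases h1 : a = 1
  · refine ⟨b, hb, c, hc, ?_, ?_, hbc⟩
    · rintro rfl; exact hab h1
    · rintro rfl; exact hac h1
  · by_cases h2 : b = 1
    · refine ⟨a, ha, c, hc, h1, ?_, hac⟩
      rintro rfl; exact hbc h2
    · exact ⟨a, ha, b, hb, h1, h2, hab⟩

theorem not_mem_W {x : G} (hx : x ∈ (S : Subgroup G)) (hx1 : x ≠ 1) : x ∉ W := fun hxW =>
  not_iv_of_odd h.odd (h.iv_of_S hx hx1) hxW

theorem faithful (g : G) (hg : ∀ w : G ⧸ h.H, g • w = w) : g = 1 := by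
  have hn := h.H.normalCore_normal
  rcases h.simple _ hn with h1 | h1
  · rw [← Subgroup.mem_bot, ← h1, Subgroup.normalCore_eq_ker, MonoidHom.mem_ker]
    ext w
    exact hg w
  · exfalso
    apply h.H_ne_top
    rw [eq_top_iff, ← h1]
    exact Subgroup.normalCore_le _

theorem twoTr : H37.BE.TwoTr G (G ⧸ h.H) := by
  obtain ⟨x, hx, y, hy, hx1, hy1, hxy⟩ := h.exists_two
  intro e e' f f' he hf
  refine H37.BE.two_transitive_of_core h.bset h.xc (by rw [h.stab]; exact h.W_le)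
    (h.mem_Ia.2 ⟨h.iv_of_S hx hx1, h.S_le hx⟩) (h.mem_Ia.2 ⟨h.iv_of_S hy hy1, h.S_le hy⟩) ?_ he hf
  apply h.not_mem_W (Subgroup.mul_mem _ hx hy)
  intro h2
  apply hxy
  rw [eq_inv_of_mul_eq_one_left h2, h.inv hy]

theorem exists_ne_pt : ∃ b : G ⧸ h.H, b ≠ h.pt := by
  obtain ⟨g, hg⟩ : ∃ g, g ∉ h.H := by
    by_contra hcon
    push Not at hcon
    exact h.H_ne_top ((Subgroup.eq_top_iff' _).2 hcon)
  exact ⟨QuotientGroup.mk g, (StrEmb.mk_one_ne_mk hg).symm⟩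

theorem twoClosed (hFT : H30.Bend.OddSolv.{u}) : H30.Bend.TwoClosed h.H := by
  obtain ⟨x0, hx0, y0, hy0, hx1, hy1, hxy⟩ := h.exists_two
  obtain ⟨b, hb⟩ := h.exists_ne_pt
  intro x hx y hy hx2 hy2
  by_cases e1 : x = 1
  · rw [e1, one_mul]; exact hy2
  by_cases e2 : y = 1
  · rw [e2, mul_one]; exact hx2
  refine H37.BE.two_closed_of_core h.bset h.twoTr h.faithful hb h.xc (by rw [h.stab]; exact h.W_le)
    (hFT _ h.odd) (h.mem_Ia.2 ⟨h.iv_of_S hx0 hx1, h.S_le hx0⟩) (h.mem_Ia.2 ⟨h.iv_of_S hy0 hy1, h.S_le hy0⟩) ?_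
    (h.mem_Ia.2 ⟨⟨h.sq_of_two hx hx2, e1⟩, hx⟩) (h.mem_Ia.2 ⟨⟨h.sq_of_two hy hy2, e2⟩, hy⟩)
  apply h.not_mem_W (Subgroup.mul_mem _ hx0 hy0)
  intro h2
  apply hxy
  rw [eq_inv_of_mul_eq_one_left h2, h.inv hy0]

theorem bh : H30.Bend.BH G (G ⧸ h.H) := H30.Bend.bh_of_stronglyEmbedded h.strongly

theorem tc (hFT : H30.Bend.OddSolv.{u}) : H30.Bend.TC G (G ⧸ h.H) := H30.Bend.tc_of_twoClosed (h.twoClosed hFT)

theorem comm2 : H30.Bend.Comm2 G := by
  obtain ⟨x, hx, y, hy, hx1, hy1, hxy⟩ := h.exists_two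
  exact ⟨x, y, iv_iff.1 (h.iv_of_S hx hx1), iv_iff.1 (h.iv_of_S hy hy1), hxy, h.comm hx hy⟩

theorem S_eq (hFT : H30.Bend.OddSolv.{u}) : (h.tc hFT).S h.pt = (S : Subgroup G) := by
  refine S.is_maximal' ((h.tc hFT).isPGroup_S h.pt) ?_
  intro x hx
  exact ⟨h.smul_pt.2 (h.S_le hx), 1, by rw [pow_one, pow_two]; exact h.sq x hx⟩

theorem conj_S (hFT : H30.Bend.OddSolv.{u}) {g x : G} (hg : g ∈ h.H) (hx : x ∈ (S : Subgroup G)) :
    g * x * g⁻¹ ∈ (S : Subgroup G) := by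
  rw [← h.S_eq hFT] at hx ⊢
  exact (h.tc hFT).conj_S' hx (h.smul_pt.2 hg)

theorem H_eq (hFT : H30.Bend.OddSolv.{u}) : h.H = normalizer ((S : Subgroup G) : Set G) := by
  refine le_antisymm ?_ h.N_le
  intro g hg
  rw [Subgroup.mem_normalizer_iff]
  intro x
  refine ⟨fun hx => h.conj_S hFT hg hx, fun hx => ?_⟩
  have := h.conj_S hFT (inv_mem hg) hx
  have e : g⁻¹ * (g * x * g⁻¹) * g⁻¹⁻¹ = x := by group
  rwa [e] at this

theorem trans (hFT : H30.Bend.OddSolv.{u}) {b c : G ⧸ h.H} (hb : b ≠ h.pt) (hc : c ≠ h.pt) :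
    ∃ s ∈ (S : Subgroup G), s • b = c := by
  obtain ⟨s, hs, hsb⟩ := H30.Bend.stmt_all hFT (Nat.card G) G rfl (G ⧸ h.H) h.bh (h.tc hFT) h.comm2 h.pt b c hb hc
  rw [h.S_eq hFT] at hs
  exact ⟨s, hs, hsb⟩

theorem free {x : G} (hx : x ∈ (S : Subgroup G)) {b : G ⧸ h.H} (hb : b ≠ h.pt) (hxb : x • b = b) : x = 1 := by
  by_contra hx1
  exact hb (h.bset.uniq x (h.iv_of_S hx hx1) b h.pt hxb (h.smul_pt.2 (h.S_le hx)))

theorem cent_S (hFT : H30.Bend.OddSolv.{u}) : centralizer ((S : Subgroup G) : Set G) = (S : Subgroup G) := by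
  apply le_antisymm
  · intro g hg
    obtain ⟨b, hb⟩ := h.exists_ne_pt
    have hgH : g ∈ h.H := by
      obtain ⟨x, hx, -, -, hx1, -, -⟩ := h.exists_two
      refine h.cent x hx hx1 ?_
      rw [mem_cent_singleton]
      exact Subgroup.mem_centralizer_iff.1 hg x hx
    have hgb : g • b ≠ h.pt := by
      intro h1
      apply hb
      have h2 := h.smul_pt.2 hgH
      rw [← h2] at h1
      exact MulAction.injective g h1
    obtain ⟨s, hs, hsb⟩ := h.trans hFT hb hgb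
    have h1 : s⁻¹ * g = 1 := by
      apply h.faithful
      intro w
      have h3 : ∀ x ∈ (S : Subgroup G), (s⁻¹ * g) * x = x * (s⁻¹ * g) := by
        intro x hx
        have e1 := Subgroup.mem_centralizer_iff.1 hg x hx
        have e2 := h.comm hx (Subgroup.inv_mem _ hs)
        calc (s⁻¹ * g) * x = s⁻¹ * (g * x) := by group
          _ = (s⁻¹ * x) * g := by rw [← e1]; group
          _ = x * (s⁻¹ * g) := by rw [← e2]; group
      have h4 : (s⁻¹ * g) • b = b := by rw [mul_smul, ← hsb, inv_smul_smul]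
      by_cases hw : w = h.pt
      · rw [hw, h.smul_pt]
        exact mul_mem (inv_mem (h.S_le hs)) hgH
      · obtain ⟨x, hx, hxb⟩ := h.trans hFT hb hw
        rw [← hxb, ← mul_smul, h3 x hx, mul_smul, h4]
    have h2 : g = s := by
      calc g = s * (s⁻¹ * g) := by group
        _ = s := by rw [h1, mul_one]
    rw [h2]; exact hs
  · intro g hg
    rw [Subgroup.mem_centralizer_iff]
    intro x hx
    exact h.comm hx hg

theorem relIndex_eq (hFT : H30.Bend.OddSolv.{u}) {b : G ⧸ h.H} (hb : b ≠ h.pt) :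
    (centralizer ((S : Subgroup G) : Set G)).relIndex (normalizer ((S : Subgroup G) : Set G)) =
      Nat.card (Da G h.pt b) := by
  have h1 := relIndex_mul_relIndex ⊥ (S : Subgroup G) h.H bot_le h.S_le
  rw [relIndex_bot_left, relIndex_bot_left] at h1
  rw [h.cent_S hFT, ← h.H_eq hFT]
  have h2 : Nat.card (S : Subgroup G) * Nat.card (Da G h.pt b) = Nat.card h.H := by
    rw [← Nat.card_prod]
    refine Nat.card_eq_of_bijective (fun p : ↥(S : Subgroup G) × ↥(Da G h.pt b) =>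
      (⟨(p.1 : G) * p.2, mul_mem (h.S_le p.1.2) (h.smul_pt.1 (mem_Da.1 p.2.2).1)⟩ : h.H)) ⟨?_, ?_⟩
    · rintro ⟨s, d⟩ ⟨s', d'⟩ he
      have e0 : (s : G) * d = s' * d' := congrArg Subtype.val he
      have e1 : ((s' : G)⁻¹ * s) • b = b := by
        have e2 : (s' : G)⁻¹ * s = d' * (d : G)⁻¹ := by
          calc (s' : G)⁻¹ * s = (s' : G)⁻¹ * (s * d) * (d : G)⁻¹ := by group
            _ = d' * (d : G)⁻¹ := by rw [e0]; group
        rw [e2, mul_smul, inv_smul_eq_iff.2 (mem_Da.1 d.2).2.symm, (mem_Da.1 d'.2).2]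
      have e2 := h.free (Subgroup.mul_mem _ (Subgroup.inv_mem _ s'.2) s.2) hb e1
      have e3 : (s : G) = s' := (inv_mul_eq_one.1 e2).symm
      have e4 : (d : G) = d' := by rw [e3] at e0; exact mul_left_cancel e0
      rw [Prod.mk.injEq]
      exact ⟨Subtype.ext e3, Subtype.ext e4⟩
    · rintro ⟨g, hg⟩
      have hgb : g • b ≠ h.pt := by
        intro h1
        apply hb
        have h2 := h.smul_pt.2 hg
        rw [← h2] at h1
        exact MulAction.injective g h1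
      obtain ⟨s, hs, hsb⟩ := h.trans hFT hb hgb
      refine ⟨⟨⟨s, hs⟩, ⟨s⁻¹ * g, mem_Da.2 ⟨?_, ?_⟩⟩⟩, Subtype.ext ?_⟩
      · rw [h.smul_pt]; exact mul_mem (inv_mem (h.S_le hs)) hg
      · rw [mul_smul, ← hsb, inv_smul_smul]
      · show s * (s⁻¹ * g) = g
        group
  have h3 : 0 < Nat.card (S : Subgroup G) := Nat.card_pos
  rw [← h2] at h1
  exact Nat.eq_of_mul_eq_mul_left h3 h1

/-- the final result -/
theorem seven (hFT : H30.Bend.OddSolv.{u}) (h8 : Nat.card (S : Subgroup G) = 8) :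
    (centralizer ((S : Subgroup G) : Set G)).relIndex (normalizer ((S : Subgroup G) : Set G)) = 7 := by
  obtain ⟨b, hb⟩ := h.exists_ne_pt
  rw [h.relIndex_eq hFT hb]
  obtain ⟨t, ht⟩ := h.bset.Ua_nonempty hb.symm
  have hSI : ∀ x : G, x ∈ Ia G h.pt ↔ x ∈ (S : Subgroup G) ∧ x ≠ 1 := by
    intro x
    rw [h.mem_Ia]
    constructor
    · rintro ⟨h1, h2⟩
      refine ⟨?_, h1.2⟩
      rw [← h.S_eq hFT]
      exact ⟨h.smul_pt.2 h2, h.two_of_iv h1⟩
    · rintro ⟨h1, h2⟩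
      exact ⟨h.iv_of_S h1 h2, h.S_le h1⟩
  have key : L28.H8 G (G ⧸ h.H) h.pt b (S : Subgroup G) (Da G h.pt b) t :=
    { ab := hb.symm
      S8 := h8
      sq := h.sq
      Sa := fun x hx => h.smul_pt.2 (h.S_le hx)
      reg := fun x hx hxb => h.free hx hb hxb
      tr := fun c hc => h.trans hFT hb hc
      mD := fun g => mem_Da
      nS := fun g hg x hx => h.conj_S hFT (h.smul_pt.1 hg) hx
      faith := by
        intro g hg hgS
        apply h.faithful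
        intro w
        by_cases hw : w = h.pt
        · rw [hw]; exact (mem_Da.1 hg).1
        · obtain ⟨x, hx, hxb⟩ := h.trans hFT hb hw
          rw [← hxb, ← mul_smul, hgS x hx, mul_smul, (mem_Da.1 hg).2]
      oddD := h.bset.odd_Da hb.symm
      trS := by
        intro x hx y hy hx1 hy1
        obtain ⟨d, hd, hdy⟩ := H37.BE.Da_trans_Ia h.bset (a := b) (b := h.pt) hb ((hSI x).2 ⟨hx, hx1⟩)
          ((hSI y).2 ⟨hy, hy1⟩)
        exact ⟨d, by rw [Da_comm]; exact hd, hdy⟩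
      tt := ht.1.1
      t1 := ht.1.2
      tab := ht.2
      trU := by
        intro w hw1 hw2 hw3
        exact h.bset.Da_trans hb.symm ht ⟨⟨hw1, hw2⟩, hw3⟩
      cU := by
        have h1 := h.bset.card_Ua hb.symm
        rw [h.bset.card_Ia_eq b h.pt] at h1
        have h2 : Nat.card (Ia G h.pt) = 7 := by
          have h3 : Ia G h.pt = ((S : Subgroup G) : Set G) \ {1} := by
            ext x
            exact hSI x
          have h4 : (((S : Subgroup G) : Set G) \ {1}).ncard = 7 := by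
            rw [Set.ncard_sdiff_singleton_of_mem (Subgroup.one_mem _)]
            have h5 : ((S : Subgroup G) : Set G).ncard = Nat.card (S : Subgroup G) := rfl
            rw [h5, h8]
          rw [h3]
          exact h4
        rw [h2] at h1
        rw [← h1]
        refine Nat.card_congr (Equiv.subtypeEquivRight fun w => ?_)
        constructor
        · rintro ⟨e1, e2, e3⟩; exact ⟨⟨e1, e2⟩, e3⟩
        · rintro ⟨⟨e1, e2⟩, e3⟩; exact ⟨e1, e2, e3⟩ }
  exact key.card_eq_seven h.simple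

end Hyp

end Cfsg.Agent.H69.SEE
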