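import Mathlib
import Cfsg.Prelude.Def_CaseTheorems
import Cfsg.Agent.H69.SEElem
import Cfsg.Agent.H69.ConAbel

/-!
# Simple groups with Sylow 2-subgroup `E_8` and solvable centralizers of involutions (helper69)
-/

set_option autoImplicit false
set_option linter.unusedSectionVars false

namespace Cfsg.Agent.H69.SEE

open Subgroup Cfsg MulAction

universe u

variable {G : Type u} [Group G] [Finite G]

/-- the centralizers of involutions of an abelian Sylow 2-subgroup -/
theorem cent_le (S : Sylow 2 G) (hSc : ∀ x ∈ (S : Subgroup G), ∀ y ∈ (S : Subgroup G), x * y = y * x)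
    {a : G} (ha : a ∈ (S : Subgroup G)) (hsol : Group.IsSolvable ↥(centralizer ({a} : Set G))) :
    centralizer ({a} : Set G) ≤ normalizer ((S : Subgroup G) : Set G) ⊔ centralizerPPrimeCore 2 a := by
  haveI : Fact (Nat.Prime 2) := ⟨Nat.prime_two⟩
  have hle : (S : Subgroup G) ≤ centralizer ({a} : Set G) := by
    intro x hx
    rw [mem_cent_singleton]
    exact hSc a ha x hx
  have h1 := core_sup_normalizer_of_constrained (SigF.PC.isPConstrained_of_isSolvable (p := 2) hsol) (S.subtype hle) (by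
    rintro ⟨x, hx'⟩ hx ⟨y, hy'⟩ hy
    exact Subtype.ext (hSc x hx y hy))
  intro g hg
  have h2 : (⟨g, hg⟩ : centralizer ({a} : Set G)) ∈ pPrimeCore 2 ↥(centralizer ({a} : Set G)) ⊔
      normalizer ((S.subtype hle : Subgroup ↥(centralizer ({a} : Set G))) : Set ↥(centralizer ({a} : Set G))) := by
    rw [h1]; exact mem_top _
  have h3 : g ∈ (pPrimeCore 2 ↥(centralizer ({a} : Set G)) ⊔
      normalizer ((S.subtype hle : Subgroup ↥(centralizer ({a} : Set G))) : Set ↥(centralizer ({a} : Set G)))).map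
        (centralizer ({a} : Set G)).subtype := ⟨_, h2, rfl⟩
  rw [Subgroup.map_sup] at h3
  suffices h5 : (pPrimeCore 2 ↥(centralizer ({a} : Set G))).map (centralizer ({a} : Set G)).subtype ⊔
      (normalizer ((S.subtype hle : Subgroup ↥(centralizer ({a} : Set G))) : Set ↥(centralizer ({a} : Set G)))).map
        (centralizer ({a} : Set G)).subtype ≤
      normalizer ((S : Subgroup G) : Set G) ⊔ centralizerPPrimeCore 2 a from h5 h3
  apply sup_le
  · exact le_sup_right
  · refine le_trans ?_ le_sup_left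
    rintro _ ⟨x, hx, rfl⟩
    rw [Subgroup.mem_normalizer_iff]
    intro y
    constructor
    · intro hy
      have h4 := (Subgroup.mem_normalizer_iff.1 hx (⟨y, hle hy⟩ : centralizer ({a} : Set G))).1 hy
      exact h4
    · intro hy
      have hyC : y ∈ centralizer ({a} : Set G) := by
        have h5 : (x : G)⁻¹ * ((x : G) * y * (x : G)⁻¹) * x ∈ centralizer ({a} : Set G) :=
          mul_mem (mul_mem (inv_mem x.2) (hle hy)) x.2
        have e : (x : G)⁻¹ * ((x : G) * y * (x : G)⁻¹) * x = y := by group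
        rwa [e] at h5
      exact (Subgroup.mem_normalizer_iff.1 hx (⟨y, hyC⟩ : centralizer ({a} : Set G))).2 hy

/-- 2-local subgroups are solvable -/
theorem isSolvable_normalizer (hFT : H30.Bend.OddSolv.{u}) (S : Sylow 2 G)
    (hsq : ∀ x ∈ (S : Subgroup G), x * x = 1)
    (hC : ∀ t : G, orderOf t = 2 → Group.IsSolvable ↥(centralizer ({t} : Set G)))
    (T : Subgroup G) (hT : IsPGroup 2 T) (hT1 : T ≠ ⊥) : Group.IsSolvable ↥(normalizer (T : Set G)) := by
  haveI : Fact (Nat.Prime 2) := ⟨Nat.prime_two⟩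
  obtain ⟨P, hTP⟩ := hT.exists_le_sylow
  obtain ⟨g, hg⟩ := MulAction.exists_smul_eq G S P
  have hPsq : ∀ x ∈ (P : Subgroup G), x * x = 1 := by
    intro x hx
    rw [← hg] at hx
    have h1 : x ∈ (S : Subgroup G).map (MulAut.conj g).toMonoidHom := hx
    obtain ⟨y, hy, rfl⟩ := h1
    show g * y * g⁻¹ * (g * y * g⁻¹) = 1
    calc g * y * g⁻¹ * (g * y * g⁻¹) = g * (y * y) * g⁻¹ := by group
      _ = 1 := by rw [hsq y hy]; group
  have hPc : ∀ x ∈ (P : Subgroup G), ∀ y ∈ (P : Subgroup G), x * y = y * x := by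
    intro x hx y hy
    have e1 : x⁻¹ = x := inv_eq_of_mul_eq_one_left (hPsq x hx)
    have e2 : y⁻¹ = y := inv_eq_of_mul_eq_one_left (hPsq y hy)
    have e3 : (x * y)⁻¹ = x * y := inv_eq_of_mul_eq_one_left (hPsq _ (Subgroup.mul_mem _ hx hy))
    rw [mul_inv_rev, e1, e2] at e3
    exact e3.symm
  obtain ⟨t, htT, ht1⟩ : ∃ t ∈ T, t ≠ 1 := by
    by_contra hcon
    push Not at hcon
    exact hT1 ((Subgroup.eq_bot_iff_forall _).2 hcon)
  have ht2 : orderOf t = 2 := orderOf_eq_prime (by rw [pow_two]; exact hPsq t (hTP htT)) ht1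
  set N := normalizer (T : Set G) with hN
  set K : Subgroup N := (centralizer (T : Set G)).subgroupOf N with hK
  have hKn : K.Normal := by
    constructor
    intro x hx y
    rw [hK, Subgroup.mem_subgroupOf, Subgroup.mem_centralizer_iff] at hx ⊢
    intro z hz
    have h1 : (y : G)⁻¹ * z * y ∈ T := by
      have := (Subgroup.mem_normalizer_iff.1 (inv_mem y.2) z).1 hz
      rwa [inv_inv] at this
    have h2 := hx _ h1
    push_cast
    calc z * ((y : G) * x * (y : G)⁻¹) = y * ((y : G)⁻¹ * z * y * x) * (y : G)⁻¹ := by group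
      _ = y * (x * ((y : G)⁻¹ * z * y)) * (y : G)⁻¹ := by rw [h2]
      _ = (y : G) * x * (y : G)⁻¹ * z := by group
  have hPK : (P : Subgroup G) ≤ centralizer (T : Set G) := by
    intro x hx
    rw [Subgroup.mem_centralizer_iff]
    intro y hy
    exact hPc y (hTP hy) x hx
  have hcN : centralizer (T : Set G) ≤ N := by
    intro x hx
    rw [hN, Subgroup.mem_normalizer_iff]
    intro y
    have hx' := Subgroup.mem_centralizer_iff.1 hx
    constructor
    · intro hy
      have := hx' y hy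
      rw [← this, mul_inv_cancel_right]; exact hy
    · intro hy
      have h1 := hx' _ hy
      have h2 : x * y * x⁻¹ * x = x * (x * y * x⁻¹) := h1
      have h3 : x * y = x * (x * y * x⁻¹) := by rw [← h2]; group
      have h4 := mul_left_cancel h3
      rw [h4]; exact hy
  have hodd : Odd (Nat.card (N ⧸ K)) := by
    rw [← Nat.not_even_iff_odd]
    intro hev
    have h1 : 2 ∣ (centralizer (T : Set G)).relIndex N := hev.two_dvd
    have h2 : 2 ∣ (P : Subgroup G).index := by
      have h3 : (centralizer (T : Set G)).relIndex N ∣ (centralizer (T : Set G)).index :=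
        Subgroup.relIndex_dvd_index_of_le hcN
      have h4 : (centralizer (T : Set G)).index ∣ (P : Subgroup G).index := Subgroup.index_dvd_of_le hPK
      exact h1.trans (h3.trans h4)
    exact P.not_dvd_index h2
  have hsq : Group.IsSolvable (N ⧸ K) := hFT _ hodd
  have hsK : Group.IsSolvable K := by
    have h1 : Group.IsSolvable ↥(centralizer ({t} : Set G)) := hC t ht2
    have h2 : ∀ x : K, ((x : N) : G) ∈ centralizer ({t} : Set G) := by
      rintro ⟨x, hx⟩
      rw [mem_cent_singleton]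
      exact Subgroup.mem_centralizer_iff.1 (Subgroup.mem_subgroupOf.1 hx) t htT
    let f : K →* ↥(centralizer ({t} : Set G)) :=
      { toFun := fun x => ⟨((x : N) : G), h2 x⟩
        map_one' := rfl
        map_mul' := fun x y => rfl }
    refine Group.isSolvable_of_isSolvable_injective (f := f) ?_
    intro x y hxy
    have := congrArg Subtype.val hxy
    exact Subtype.ext (Subtype.ext this)
  exact (Group.isSolvable_iff_subgroup_quotient K).2 ⟨hsK, hsq⟩

theorem not_rank_of_elem {H : Subgroup G} (hsq : ∀ x ∈ H, x * x = 1) {k : ℕ} (hk : 2 ^ k < Nat.card H) :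
    ¬ PRankLE 2 k ↥H := by
  intro h
  have h1 := h ⊤ ⟨⟨?_⟩⟩ ?_
  · rw [Subgroup.card_top] at h1; omega
  · rintro ⟨⟨x, hx⟩, -⟩ ⟨⟨y, hy⟩, -⟩
    apply Subtype.ext
    apply Subtype.ext
    show x * y = y * x
    have e1 : x⁻¹ = x := inv_eq_of_mul_eq_one_left (hsq x hx)
    have e2 : y⁻¹ = y := inv_eq_of_mul_eq_one_left (hsq y hy)
    have e3 : (x * y)⁻¹ = x * y := inv_eq_of_mul_eq_one_left (hsq _ (Subgroup.mul_mem _ hx hy))
    rw [mul_inv_rev, e1, e2] at e3
    exact e3.symm
  · rintro ⟨x, hx⟩ -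
    apply Subtype.ext
    show x ^ 2 = 1
    rw [pow_two]; exact hsq x hx

/-- the conclusion of S3110 -/
def CoreW (G : Type u) [Group G] [Finite G] : Prop :=
  ∀ (_ : ∀ T : Subgroup G, IsPGroup 2 T → T ≠ ⊥ → Cfsg.IsPConstrained 2 ↥(Subgroup.normalizer (T : Set G)))
    (S : Sylow 2 G) (A : Subgroup ↥(S : Subgroup G)) (_ : A.Normal) (_ : IsMulCommutative ↥A)
    (_ : Subgroup.centralizer (A : Set ↥(S : Subgroup G)) = A) (_ : ¬ Cfsg.PRankLE 2 2 ↥A) (S' : Sylow 2 G),
    ∃ W : Subgroup G, Odd (Nat.card ↥W) ∧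
      ∀ B : Subgroup G, B ≤ (S' : Subgroup G) → ¬ Cfsg.PRankLE 2 1 ↥B →
        W = (⨆ b : {b : G // b ∈ B ∧ b ≠ 1}, Cfsg.centralizerPPrimeCore 2 (b : G)) ∧
        Subgroup.normalizer (B : Set G) ≤ Subgroup.normalizer (W : Set G)

theorem main (hFT : H30.Bend.OddSolv.{u}) (hCW : CoreW G) (hsimple : ∀ N : Subgroup G, N.Normal → N = ⊥ ∨ N = ⊤)
    (hnab : ¬ ∀ x y : G, x * y = y * x) (S : Sylow 2 G) (hsq : ∀ x ∈ (S : Subgroup G), x * x = 1)
    (h8 : Nat.card (S : Subgroup G) = 8)
    (hC : ∀ t : G, orderOf t = 2 → Group.IsSolvable ↥(centralizer ({t} : Set G))) :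
    (centralizer ((S : Subgroup G) : Set G)).relIndex (normalizer ((S : Subgroup G) : Set G)) = 7 := by
  haveI : Fact (Nat.Prime 2) := ⟨Nat.prime_two⟩
  have hSc : ∀ x ∈ (S : Subgroup G), ∀ y ∈ (S : Subgroup G), x * y = y * x := by
    intro x hx y hy
    have e1 : x⁻¹ = x := inv_eq_of_mul_eq_one_left (hsq x hx)
    have e2 : y⁻¹ = y := inv_eq_of_mul_eq_one_left (hsq y hy)
    have e3 : (x * y)⁻¹ = x * y := inv_eq_of_mul_eq_one_left (hsq _ (Subgroup.mul_mem _ hx hy))
    rw [mul_inv_rev, e1, e2] at e3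
    exact e3.symm
  have hSab : IsMulCommutative (S : Subgroup G) := ⟨⟨fun x y => Subtype.ext (hSc x x.2 y y.2)⟩⟩
  obtain ⟨W, hWodd, hW⟩ := hCW (fun T hT hT1 =>
      SigF.PC.isPConstrained_of_isSolvable (isSolvable_normalizer hFT S hsq hC T hT hT1)) S ⊤ inferInstance
    ⟨⟨fun x y => Subtype.ext (hSab.is_comm.comm x.1 y.1)⟩⟩
    (by
      rw [eq_top_iff]
      intro x _
      rw [Subgroup.mem_centralizer_iff]
      intro y _
      exact hSab.is_comm.comm y x)
    (by
      intro h
      have h1 := h ⊤ ⟨⟨?_⟩⟩ ?_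
      · rw [Subgroup.card_top, Subgroup.card_top, h8] at h1; norm_num at h1
      · rintro ⟨⟨x, hx⟩, -⟩ ⟨⟨y, hy⟩, -⟩
        apply Subtype.ext
        apply Subtype.ext
        exact hSab.is_comm.comm x y
      · rintro ⟨⟨x, hx'⟩, hx⟩ -
        apply Subtype.ext
        apply Subtype.ext
        show x ^ 2 = 1
        rw [pow_two]; exact hsq x hx') S
  obtain ⟨h1, h2⟩ := hW (S : Subgroup G) le_rfl (not_rank_of_elem hsq (by rw [h8]; norm_num))
  have hyp : Hyp G S W :=
    { sq := hsq
      odd := hWodd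
      norm := h2
      cent := by
        intro a ha ha1
        refine (cent_le S hSc ha (hC a (orderOf_eq_prime (by rw [pow_two]; exact hsq a ha) ha1))).trans ?_
        refine sup_le_sup_left ?_ _
        rw [h1]
        exact le_iSup (fun b : {b : G // b ∈ (S : Subgroup G) ∧ b ≠ 1} => Cfsg.centralizerPPrimeCore 2 (b : G))
          ⟨a, ha, ha1⟩
      simple := hsimple
      nab := hnab
      four := by rw [h8]; norm_num }
  exact hyp.seven hFT h8

end Cfsg.Agent.H69.SEE
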